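import Mathlib.Topology.LocallyClosed
import Mathlib.Topology.Constructible
import Mathlib.Topology.NoetherianSpace
import Mathlib.Topology.Sets.Opens
import Mathlib.Tactic

/-! Quasi-homeomorphisms and locally quasi-constructible sets. -/

universe u

namespace Groth.Agent.QHomeo

open Topology Set

variable {X Y : Type u} [TopologicalSpace X] [TopologicalSpace Y]

/-- Finite union of locally closed sets. -/
def FLC (Z : Set X) : Prop := ∃ T : Set (Set X), T.Finite ∧ (∀ t ∈ T, IsLocallyClosed t) ∧ Z = ⋃₀ T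

/-- Locally quasi-constructible. -/
def LQC (Z : Set X) : Prop := ∀ x : X, ∃ U : Set X, IsOpen U ∧ x ∈ U ∧ FLC (U ∩ Z)

/-- Preimage is a bijection on open sets. -/
def QH (f : X → Y) : Prop :=
  (∀ U₁ U₂ : Set Y, IsOpen U₁ → IsOpen U₂ → f ⁻¹' U₁ = f ⁻¹' U₂ → U₁ = U₂) ∧
    ∀ V : Set X, IsOpen V → ∃ U : Set Y, IsOpen U ∧ f ⁻¹' U = V

theorem qh_of_bijective {f : X → Y} (hf : Continuous f)
    (hq : Function.Bijective (fun U : TopologicalSpace.Opens Y =>
      (⟨f ⁻¹' (U : Set Y), U.isOpen.preimage hf⟩ : TopologicalSpace.Opens X))) : QH f := by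
  refine ⟨fun U₁ U₂ h₁ h₂ e => ?_, fun V hV => ?_⟩
  · exact congrArg (fun U : TopologicalSpace.Opens Y => (U : Set Y))
      (hq.1 (a₁ := ⟨U₁, h₁⟩) (a₂ := ⟨U₂, h₂⟩) (TopologicalSpace.Opens.ext e))
  · obtain ⟨U, hU⟩ := hq.2 ⟨V, hV⟩
    exact ⟨U, U.isOpen, congrArg (fun U : TopologicalSpace.Opens X => (U : Set X)) hU⟩

theorem QH.bijective {f : X → Y} (h : QH f) (hf : Continuous f) :
    Function.Bijective (fun U : TopologicalSpace.Opens Y =>
      (⟨f ⁻¹' (U : Set Y), U.isOpen.preimage hf⟩ : TopologicalSpace.Opens X)) := by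
  refine ⟨fun U₁ U₂ e => TopologicalSpace.Opens.ext (h.1 _ _ U₁.isOpen U₂.isOpen
    (congrArg (fun U : TopologicalSpace.Opens X => (U : Set X)) e)), fun V => ?_⟩
  obtain ⟨U, hU, e⟩ := h.2 V V.isOpen
  exact ⟨⟨U, hU⟩, TopologicalSpace.Opens.ext e⟩

section FLC

theorem FLC.of_isLocallyClosed {Z : Set X} (h : IsLocallyClosed Z) : FLC Z :=
  ⟨{Z}, finite_singleton Z, by simpa using h, (sUnion_singleton Z).symm⟩

theorem FLC.empty : FLC (∅ : Set X) := ⟨∅, finite_empty, by simp, sUnion_empty.symm⟩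

theorem FLC.union {A B : Set X} : FLC A → FLC B → FLC (A ∪ B) := by
  rintro ⟨S, hS, hS', rfl⟩ ⟨T, hT, hT', rfl⟩
  exact ⟨S ∪ T, hS.union hT, fun t ht => ht.elim (hS' t) (hT' t), (sUnion_union S T).symm⟩

theorem FLC.inter {A B : Set X} : FLC A → FLC B → FLC (A ∩ B) := by
  rintro ⟨S, hS, hS', rfl⟩ ⟨T, hT, hT', rfl⟩
  refine ⟨image2 (· ∩ ·) S T, hS.image2 _ hT, ?_, ?_⟩
  · rintro _ ⟨s, hs, t, ht, rfl⟩; exact (hS' s hs).inter (hT' t ht)
  · ext x
    simp only [mem_inter_iff, mem_sUnion, mem_image2]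
    constructor
    · rintro ⟨⟨s, hs, hxs⟩, ⟨t, ht, hxt⟩⟩; exact ⟨s ∩ t, ⟨s, hs, t, ht, rfl⟩, hxs, hxt⟩
    · rintro ⟨_, ⟨s, hs, t, ht, rfl⟩, hxs, hxt⟩; exact ⟨⟨s, hs, hxs⟩, ⟨t, ht, hxt⟩⟩

theorem FLC.compl {A : Set X} (hA : FLC A) : FLC Aᶜ := by
  obtain ⟨T, hT, hT', rfl⟩ := hA
  induction T, hT using Set.Finite.induction_on with
  | empty => simpa using FLC.of_isLocallyClosed (isOpen_univ (X := X)).isLocallyClosed
  | @insert a s _ _ ih =>
    rw [sUnion_insert, compl_union]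
    obtain ⟨U, F, hU, hF, rfl⟩ := hT' a (mem_insert _ _)
    refine FLC.inter ?_ (ih fun t ht => hT' t (mem_insert_of_mem _ ht))
    rw [compl_inter]
    exact (FLC.of_isLocallyClosed hU.isClosed_compl.isLocallyClosed).union
      (FLC.of_isLocallyClosed hF.isOpen_compl.isLocallyClosed)

theorem FLC.preimage {f : X → Y} (hf : Continuous f) {A : Set Y} (hA : FLC A) : FLC (f ⁻¹' A) := by
  obtain ⟨T, hT, hT', rfl⟩ := hA
  refine ⟨(f ⁻¹' ·) '' T, hT.image _, ?_, by simp [preimage_sUnion]⟩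
  rintro _ ⟨t, ht, rfl⟩; exact (hT' t ht).preimage hf

theorem FLC.exists_mem {A : Set X} (hA : FLC A) {x : X} (hx : x ∈ A) :
    ∃ W, IsLocallyClosed W ∧ x ∈ W ∧ W ⊆ A := by
  obtain ⟨T, -, hT', rfl⟩ := hA
  obtain ⟨t, ht, hxt⟩ := hx
  exact ⟨t, hT' t ht, hxt, subset_sUnion_of_mem ht⟩

theorem FLC.image {W : Set X} (hW : IsOpen W) {A : Set W} (hA : FLC A) : FLC (Subtype.val '' A : Set X) := by
  obtain ⟨T, hT, hT', rfl⟩ := hA
  refine ⟨(Subtype.val '' ·) '' T, hT.image _, ?_, by rw [image_sUnion]⟩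
  rintro _ ⟨t, ht, rfl⟩
  exact (hT' t ht).image hW.isOpenEmbedding_subtypeVal.isInducing (by simpa using hW.isLocallyClosed)

theorem flc_subtype_iff {W Z : Set X} (hW : IsOpen W) :
    FLC (Subtype.val ⁻¹' Z : Set W) ↔ FLC (W ∩ Z) := by
  refine ⟨fun h => ?_, fun h => ?_⟩
  · simpa [Subtype.image_preimage_coe] using h.image hW
  · have := h.preimage (f := (Subtype.val : W → X)) continuous_subtype_val
    have e : (Subtype.val ⁻¹' (W ∩ Z) : Set W) = Subtype.val ⁻¹' Z := by ext x; simp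
    rwa [e] at this

theorem _root_.Topology.IsConstructible.flc {A : Set X} (hA : IsConstructible A) : FLC A := by
  suffices FLC A ∧ FLC Aᶜ from this.1
  induction hA using IsConstructible.empty_union_induction with
  | open_retrocompact U hU _ =>
    exact ⟨.of_isLocallyClosed hU.isLocallyClosed, .of_isLocallyClosed hU.isClosed_compl.isLocallyClosed⟩
  | union s _ t _ hs ht => exact ⟨hs.1.union ht.1, (hs.1.union ht.1).compl⟩
  | compl s _ hs => exact ⟨hs.2, by rw [compl_compl]; exact hs.1⟩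

theorem FLC.lqc {A : Set X} (hA : FLC A) : LQC A :=
  fun _ => ⟨univ, isOpen_univ, mem_univ _, by rwa [univ_inter]⟩

theorem _root_.IsLocallyClosed.lqc {A : Set X} (hA : IsLocallyClosed A) : LQC A :=
  (FLC.of_isLocallyClosed hA).lqc

theorem _root_.Topology.IsLocallyConstructible.lqc {A : Set X} (hA : IsLocallyConstructible A) : LQC A := by
  intro x
  obtain ⟨U, hU, hUo, hc⟩ := hA x
  exact ⟨U, hUo, mem_of_mem_nhds hU, (flc_subtype_iff hUo).1 hc.flc⟩

theorem LQC.inter {A B : Set X} (hA : LQC A) (hB : LQC B) : LQC (A ∩ B) := by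
  intro x
  obtain ⟨U, hU, hxU, h1⟩ := hA x
  obtain ⟨V, hV, hxV, h2⟩ := hB x
  refine ⟨U ∩ V, hU.inter hV, ⟨hxU, hxV⟩, ?_⟩
  have : U ∩ V ∩ (A ∩ B) = (U ∩ A) ∩ (V ∩ B) := by ext; simp; tauto
  rw [this]; exact h1.inter h2

theorem LQC.exists_mem {A : Set X} (hA : LQC A) {x : X} (hx : x ∈ A) :
    ∃ W, IsLocallyClosed W ∧ x ∈ W ∧ W ⊆ A := by
  obtain ⟨U, hU, hxU, h⟩ := hA x
  obtain ⟨W, h1, h2, h3⟩ := h.exists_mem ⟨hxU, hx⟩
  exact ⟨W, h1, h2, h3.trans inter_subset_right⟩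

theorem LQC.exists_notMem {A : Set X} (hA : LQC A) {x : X} (hx : x ∉ A) :
    ∃ W, IsLocallyClosed W ∧ x ∈ W ∧ W ⊆ Aᶜ := by
  obtain ⟨U, hU, hxU, h⟩ := hA x
  obtain ⟨W, h1, h2, h3⟩ := h.compl.exists_mem (show x ∈ (U ∩ A)ᶜ from fun h => hx h.2)
  exact ⟨U ∩ W, hU.isLocallyClosed.inter h1, ⟨hxU, h2⟩, fun y hy hyA => h3 hy.2 ⟨hy.1, hyA⟩⟩

theorem LQC.preimage {f : X → Y} (hf : Continuous f) {A : Set Y} (hA : LQC A) : LQC (f ⁻¹' A) := fun x => by
  obtain ⟨U, hU, hxU, h⟩ := hA (f x)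
  exact ⟨f ⁻¹' U, hU.preimage hf, hxU, by rw [← preimage_inter]; exact h.preimage hf⟩

theorem lqc_iff {Z : Set X} : LQC Z ↔
    ∀ x : X, ∃ V : Set X, IsOpen V ∧ x ∈ V ∧ FLC (Subtype.val ⁻¹' Z : Set V) :=
  forall_congr' fun _ => exists_congr fun _ => and_congr_right fun h => and_congr_right fun _ =>
    (flc_subtype_iff h).symm

end FLC

variable {f : X → Y}

theorem QH.nonempty_preimage (h : QH f) {W : Set Y} (hW : IsLocallyClosed W) (hne : W.Nonempty) :
    (f ⁻¹' W).Nonempty := by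
  obtain ⟨U, F, hU, hF, rfl⟩ := hW
  by_contra he
  rw [not_nonempty_iff_eq_empty] at he
  have : U = U ∩ Fᶜ := h.1 _ _ hU (hU.inter hF.isOpen_compl) (by
    ext x
    refine ⟨fun hx => ⟨hx, fun hxF => ?_⟩, fun hx => hx.1⟩
    exact (eq_empty_iff_forall_notMem.1 he) x ⟨hx, hxF⟩)
  obtain ⟨y, hyU, hyF⟩ := hne
  rw [this] at hyU
  exact hyU.2 hyF

theorem QH.subset_of_preimage_subset (h : QH f) {Z Z' : Set Y} (hZ : LQC Z) (hZ' : LQC Z')
    (hs : f ⁻¹' Z ⊆ f ⁻¹' Z') : Z ⊆ Z' := by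
  intro y hy
  by_contra hy'
  obtain ⟨W, h1, h2, h3⟩ := hZ.exists_mem hy
  obtain ⟨W', h1', h2', h3'⟩ := hZ'.exists_notMem hy'
  obtain ⟨x, hx⟩ := h.nonempty_preimage (h1.inter h1') ⟨y, h2, h2'⟩
  exact h3' hx.2 (hs (h3 hx.1))

theorem QH.eq_of_preimage_eq (h : QH f) {Z Z' : Set Y} (hZ : LQC Z) (hZ' : LQC Z')
    (hs : f ⁻¹' Z = f ⁻¹' Z') : Z = Z' :=
  (h.subset_of_preimage_subset hZ hZ' hs.le).antisymm (h.subset_of_preimage_subset hZ' hZ hs.ge)

theorem QH.exists_isLocallyClosed (h : QH f) {A : Set X} (hA : IsLocallyClosed A) :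
    ∃ B : Set Y, IsLocallyClosed B ∧ f ⁻¹' B = A := by
  obtain ⟨U, F, hU, hF, rfl⟩ := hA
  obtain ⟨U', hU', rfl⟩ := h.2 U hU
  obtain ⟨G, hG, eG⟩ := h.2 _ hF.isOpen_compl
  exact ⟨U' ∩ Gᶜ, hU'.isLocallyClosed.inter hG.isClosed_compl.isLocallyClosed,
    by rw [preimage_inter, preimage_compl, eG, compl_compl]⟩

theorem QH.exists_flc (h : QH f) {A : Set X} (hA : FLC A) : ∃ B : Set Y, FLC B ∧ f ⁻¹' B = A := by
  obtain ⟨T, hT, hT', rfl⟩ := hA
  choose! g hg hg' using fun t ht => h.exists_isLocallyClosed (hT' t ht)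
  refine ⟨⋃₀ (g '' T), ⟨g '' T, hT.image _, ?_, rfl⟩, ?_⟩
  · rintro _ ⟨t, ht, rfl⟩; exact hg t ht
  · rw [sUnion_image, sUnion_eq_biUnion, preimage_iUnion₂]
    exact iUnion₂_congr hg'

/-- Glue sets given on the members of an open cover. -/
theorem QH.exists_glue (h : QH f) {A : Set X} {ι : Type*} (V : ι → Set Y) (B : ι → Set Y)
    (hV : ∀ i, IsOpen (V i)) (hB : ∀ i, LQC (B i)) (hBV : ∀ i, B i ⊆ V i)
    (hcov : ∀ x, ∃ i, f x ∈ V i) (hpre : ∀ i, f ⁻¹' B i = f ⁻¹' V i ∩ A) :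
    ∃ Z : Set Y, (∀ i, V i ∩ Z = B i) ∧ (∀ y, ∃ i, y ∈ V i) ∧ f ⁻¹' Z = A := by
  have key : ∀ i, V i ∩ ⋃ j, B j = B i := by
    intro i
    refine subset_antisymm ?_ (subset_inter (hBV i) (subset_iUnion B i))
    rintro y ⟨hyi, hy⟩
    obtain ⟨j, hyj⟩ := mem_iUnion.1 hy
    have : V i ∩ B j ⊆ B i := by
      refine h.subset_of_preimage_subset ((hV i).isLocallyClosed.lqc.inter (hB j)) (hB i) ?_
      rw [preimage_inter, hpre i, hpre j]
      exact fun x hx => ⟨hx.1, hx.2.2⟩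
    exact this ⟨hyi, hyj⟩
  refine ⟨⋃ j, B j, key, fun y => ?_, ?_⟩
  · have : (⋃ i, V i) = univ := h.1 _ _ (isOpen_iUnion hV) isOpen_univ (by
      ext x; simpa using hcov x)
    exact mem_iUnion.1 (this ▸ mem_univ y)
  · rw [preimage_iUnion]
    ext x
    simp only [hpre, mem_iUnion, mem_inter_iff, mem_preimage]
    exact ⟨fun ⟨_, _, hx⟩ => hx, fun hx => (hcov x).imp fun i hi => ⟨hi, hx⟩⟩

theorem QH.exists_lqc (h : QH f) {A : Set X} (hA : LQC A) :
    ∃ B : Set Y, LQC B ∧ f ⁻¹' B = A := by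
  choose U hU hxU hUA using hA
  choose U' hU' eU using fun x => h.2 (U x) (hU x)
  choose B hB eB using fun x => h.exists_flc (hUA x)
  obtain ⟨Z, hZ, hcov, e⟩ := h.exists_glue (A := A) U' (fun x => U' x ∩ B x) hU'
    (fun x => (hU' x).isLocallyClosed.lqc.inter (hB x).lqc) (fun x => inter_subset_left)
    (fun x => ⟨x, show x ∈ f ⁻¹' U' x from (eU x).symm ▸ hxU x⟩)
    (fun x => by rw [preimage_inter, eB, eU]; ext; simp)
  refine ⟨Z, fun y => ?_, e⟩
  obtain ⟨i, hi⟩ := hcov y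
  exact ⟨U' i, hU' i, hi, by rw [hZ i]; exact (FLC.of_isLocallyClosed (hU' i).isLocallyClosed).inter (hB i)⟩

theorem QH.restrictPreimage (h : QH f) {Y' : Set Y} (hY' : LQC Y') : QH (Y'.restrictPreimage f) := by
  refine ⟨fun U₁ U₂ h₁ h₂ e => ?_, fun V hV => ?_⟩
  · obtain ⟨O₁, hO₁, rfl⟩ := isOpen_induced_iff.1 h₁
    obtain ⟨O₂, hO₂, rfl⟩ := isOpen_induced_iff.1 h₂
    have : O₁ ∩ Y' = O₂ ∩ Y' := h.eq_of_preimage_eq (hO₁.isLocallyClosed.lqc.inter hY')
      (hO₂.isLocallyClosed.lqc.inter hY') (by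
        ext x
        refine and_congr_left fun hx => ?_
        exact Set.ext_iff.1 e ⟨x, hx⟩)
    ext ⟨y, hy⟩
    have := Set.ext_iff.1 this y
    simpa [hy] using this
  · obtain ⟨O, hO, rfl⟩ := isOpen_induced_iff.1 hV
    obtain ⟨O', hO', rfl⟩ := h.2 O hO
    exact ⟨Subtype.val ⁻¹' O', hO'.preimage continuous_subtype_val, rfl⟩

theorem QH.isCompact_iff_of_isOpen (h : QH f) (hf : Continuous f) {U : Set Y} (hU : IsOpen U) :
    IsCompact U ↔ IsCompact (f ⁻¹' U) := by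
  rw [isCompact_iff_finite_subcover, isCompact_iff_finite_subcover]
  constructor
  · intro hc ι V hV hcov
    choose V' hV' eV using fun i => h.2 (V i) (hV i)
    obtain ⟨t, ht⟩ := hc V' hV' (h.subset_of_preimage_subset hU.isLocallyClosed.lqc
      (isOpen_iUnion hV').isLocallyClosed.lqc (by simpa [preimage_iUnion, eV] using hcov))
    exact ⟨t, by simpa [preimage_iUnion, eV] using preimage_mono (f := f) ht⟩
  · intro hc ι V hV hcov
    obtain ⟨t, ht⟩ := hc (fun i => f ⁻¹' V i) (fun i => (hV i).preimage hf)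
      (by simpa [preimage_iUnion] using preimage_mono (f := f) hcov)
    exact ⟨t, h.subset_of_preimage_subset hU.isLocallyClosed.lqc
      (isOpen_biUnion fun i _ => hV i).isLocallyClosed.lqc (by simpa [preimage_iUnion] using ht)⟩

theorem QH.isCompact_iff (h : QH f) (hf : Continuous f) {Z : Set Y} (hZ : LQC Z) :
    IsCompact Z ↔ IsCompact (f ⁻¹' Z) := by
  rw [isCompact_iff_isCompact_univ, isCompact_iff_isCompact_univ (s := f ⁻¹' Z)]
  simpa using (h.restrictPreimage hZ).isCompact_iff_of_isOpen hf.restrictPreimage isOpen_univ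

theorem QH.isRetrocompact_iff (h : QH f) (hf : Continuous f) {Z : Set Y} (hZ : LQC Z) :
    IsRetrocompact Z ↔ IsRetrocompact (f ⁻¹' Z) := by
  constructor
  · intro hr V hVc hV
    obtain ⟨U, hU, rfl⟩ := h.2 V hV
    rw [← preimage_inter, ← h.isCompact_iff hf (hZ.inter hU.isLocallyClosed.lqc)]
    exact hr ((h.isCompact_iff_of_isOpen hf hU).2 hVc) hU
  · intro hr U hUc hU
    rw [h.isCompact_iff hf (hZ.inter hU.isLocallyClosed.lqc), preimage_inter]
    exact hr ((h.isCompact_iff_of_isOpen hf hU).1 hUc) (hU.preimage hf)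

theorem QH.noetherianSpace_iff (h : QH f) (hf : Continuous f) :
    TopologicalSpace.NoetherianSpace Y ↔ TopologicalSpace.NoetherianSpace X := by
  have hY : TopologicalSpace.NoetherianSpace Y ↔ ∀ s : TopologicalSpace.Opens Y, IsCompact (s : Set Y) :=
    (TopologicalSpace.noetherianSpace_TFAE Y).out 0 3
  have hX : TopologicalSpace.NoetherianSpace X ↔ ∀ s : TopologicalSpace.Opens X, IsCompact (s : Set X) :=
    (TopologicalSpace.noetherianSpace_TFAE X).out 0 3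
  rw [hY, hX]
  constructor
  · intro hY V
    obtain ⟨U, hU, e⟩ := h.2 V V.isOpen
    rw [← e, ← h.isCompact_iff_of_isOpen hf hU]
    exact hY ⟨U, hU⟩
  · intro hX U
    rw [h.isCompact_iff_of_isOpen hf U.isOpen]
    exact hX ⟨_, U.isOpen.preimage hf⟩

theorem QH.preimage_isConstructible (h : QH f) (hf : Continuous f) {Z : Set Y} (hZ : IsConstructible Z) :
    IsConstructible (f ⁻¹' Z) := by
  induction hZ using IsConstructible.empty_union_induction with
  | open_retrocompact U hU hUc =>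
    exact ((h.isRetrocompact_iff hf hU.isLocallyClosed.lqc).1 hUc).isConstructible (hU.preimage hf)
  | union s _ t _ hs ht => exact hs.union ht
  | compl s _ hs => exact hs.compl

theorem QH.exists_isConstructible (h : QH f) (hf : Continuous f) {A : Set X} (hA : IsConstructible A) :
    ∃ Z : Set Y, IsConstructible Z ∧ f ⁻¹' Z = A := by
  induction hA using IsConstructible.empty_union_induction with
  | open_retrocompact U hU hUc =>
    obtain ⟨U', hU', rfl⟩ := h.2 U hU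
    exact ⟨U', ((h.isRetrocompact_iff hf hU'.isLocallyClosed.lqc).2 hUc).isConstructible hU', rfl⟩
  | union s _ t _ hs ht =>
    obtain ⟨a, ha, rfl⟩ := hs; obtain ⟨b, hb, rfl⟩ := ht
    exact ⟨a ∪ b, ha.union hb, rfl⟩
  | compl s _ hs =>
    obtain ⟨a, ha, rfl⟩ := hs
    exact ⟨aᶜ, ha.compl, rfl⟩

theorem QH.preimage_isLocallyConstructible (h : QH f) (hf : Continuous f) {Z : Set Y}
    (hZ : IsLocallyConstructible Z) : IsLocallyConstructible (f ⁻¹' Z) := by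
  intro x
  obtain ⟨U, hU, hUo, hc⟩ := hZ (f x)
  exact ⟨f ⁻¹' U, hf.continuousAt.preimage_mem_nhds hU, hUo.preimage hf,
    (h.restrictPreimage hUo.isLocallyClosed.lqc).preimage_isConstructible hf.restrictPreimage hc⟩

theorem QH.exists_isLocallyConstructible (h : QH f) (hf : Continuous f) {A : Set X}
    (hA : IsLocallyConstructible A) : ∃ Z : Set Y, IsLocallyConstructible Z ∧ f ⁻¹' Z = A := by
  choose U hUx hUo hUc using hA
  choose U' hU' eU using fun x => h.2 (U x) (hUo x)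
  have hc : ∀ x, IsConstructible ((Subtype.val : ↥(f ⁻¹' U' x) → X) ⁻¹' A) := fun x => by
    rw [eU x]; exact hUc x
  choose C hC eC using fun x =>
    (h.restrictPreimage (hU' x).isLocallyClosed.lqc).exists_isConstructible hf.restrictPreimage (hc x)
  obtain ⟨Z, hZ, hcov, e⟩ := h.exists_glue (A := A) U' (fun x => Subtype.val '' C x) hU'
    (fun x => ((hC x).flc.image (hU' x)).lqc) (fun x => by simp)
    (fun x => ⟨x, show x ∈ f ⁻¹' U' x from (eU x).symm ▸ mem_of_mem_nhds (hUx x)⟩)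
    (fun x => by
      ext z
      constructor
      · rintro ⟨⟨y, hy⟩, hyC, rfl⟩
        exact ⟨hy, (Set.ext_iff.1 (eC x) ⟨z, hy⟩).1 hyC⟩
      · rintro ⟨hz, hzA⟩
        exact ⟨⟨f z, hz⟩, (Set.ext_iff.1 (eC x) ⟨z, hz⟩).2 hzA, rfl⟩)
  refine ⟨Z, fun y => ?_, e⟩
  obtain ⟨i, hi⟩ := hcov y
  refine ⟨U' i, (hU' i).mem_nhds hi, hU' i, ?_⟩
  have e2 : (Subtype.val ⁻¹' Z : Set (U' i)) = C i := by
    rw [← Subtype.preimage_coe_self_inter, hZ i, preimage_image_eq _ Subtype.val_injective]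
  rw [e2]; exact hC i

/-- A very dense subset gives a quasi-homeomorphism. -/
theorem qh_subtype_val {X₀ : Set X} (h : ∀ Z : Set X, IsLocallyClosed Z → Z.Nonempty → (Z ∩ X₀).Nonempty) :
    QH (Subtype.val : X₀ → X) := by
  refine ⟨fun U V hU hV e => ?_, fun V hV => isOpen_induced_iff.1 hV⟩
  have key : ∀ U V : Set X, IsOpen U → IsOpen V → (∀ x ∈ X₀, x ∈ U → x ∈ V) → U ⊆ V := by
    intro U V hU hV h' x hx
    by_contra hxV
    obtain ⟨z, ⟨hzU, hzV⟩, hz⟩ := h (U ∩ Vᶜ) (hU.isLocallyClosed.inter hV.isClosed_compl.isLocallyClosed) ⟨x, hx, hxV⟩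
    exact hzV (h' z hz hzU)
  exact (key U V hU hV fun x hx => (Set.ext_iff.1 e ⟨x, hx⟩).1).antisymm
    (key V U hV hU fun x hx => (Set.ext_iff.1 e ⟨x, hx⟩).2)

end Groth.Agent.QHomeo
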